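import Groth.Prelude.Def_W4swconnpcurvhiggsLogLam
import Groth.Prelude.Def_LogDiff
import Mathlib.LinearAlgebra.Matrix.Determinant.Basic
import Mathlib.Tactic.LinearCombination
import Mathlib.Tactic.Ring

set_option autoImplicit false
universe v u

open TensorProduct LogConn

namespace Groth.Agent.LogConnLib

variable {B N : Type u} [CommRing B] [AddCommGroup N] [Module B N]
  {E : Type u} [AddCommGroup E] [Module B E]

/-- reading a functional on the right factor -/
noncomputable def readR (φ : N →ₗ[B] B) : E ⊗[B] N →ₗ[B] E :=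
  (TensorProduct.rid B E).toLinearMap ∘ₗ TensorProduct.map LinearMap.id φ

theorem readR_tmul (φ : N →ₗ[B] B) (m : E) (x : N) : readR φ (m ⊗ₜ[B] x) = φ x • m := by
  simp [readR]

theorem sum_readR {κ : Type*} [Fintype κ] (b : Module.Basis κ B N) (x : E ⊗[B] N) :
    ∑ i, readR (b.coord i) x ⊗ₜ[B] b i = x := by
  induction x with
  | add x y hx hy =>
    simp only [map_add, add_tmul, Finset.sum_add_distrib, hx, hy]
  | tmul m l =>
    simp only [readR_tmul, smul_tmul, ← tmul_sum, Module.Basis.coord_apply, b.sum_repr]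
  | zero => simp

variable {A : Type v} [CommRing A] [Algebra A B] [Module A E] [IsScalarTower A B E]
  {L : Type u} [AddCommGroup L] [Module B L] [Module A L] [IsScalarTower A B L]
  {n : ℕ}

omit [Module A L] [IsScalarTower A B L] in
theorem comp_eq (nabla : E →ₗ[A] E ⊗[B] L) (ω : Module.Basis (Fin n) B L) (i : Fin n) (e : E) :
    comp nabla ω i e = readR (ω.coord i) (nabla e) := rfl

omit [Module A L] [IsScalarTower A B L] in
theorem nabla_eq (nabla : E →ₗ[A] E ⊗[B] L) (ω : Module.Basis (Fin n) B L) (e : E) :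
    nabla e = ∑ i, comp nabla ω i e ⊗ₜ[B] ω i :=
  (sum_readR ω (nabla e)).symm

/-- The data: coordinates, forms, connection. -/
structure Setting (A : Type v) (B E L : Type u) [CommRing A] [CommRing B] [Algebra A B]
    [AddCommGroup L] [Module B L] [Module A L] [IsScalarTower A B L]
    [AddCommGroup E] [Module B E] [Module A E] [IsScalarTower A B E] (n : ℕ) where
  lam : B
  t : Fin n → B
  bΩ : Module.Basis (Fin n) B (KaehlerDifferential A B)
  hbΩ : ∀ i, bΩ i = KaehlerDifferential.D A B (t i)
  ω : Module.Basis (Fin n) B L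
  ι : KaehlerDifferential A B →ₗ[B] L
  hι : ∀ i, ι (KaehlerDifferential.D A B (t i)) = t i • ω i
  nabla : E →ₗ[A] E ⊗[B] L
  hc : Conn.IsLamConn (ι.compDer (KaehlerDifferential.D A B)) lam nabla

namespace Setting

variable (S : Setting A B E L n)

theorem coord_ι (η : KaehlerDifferential A B) (k : Fin n) :
    S.ω.coord k (S.ι η) = S.t k * S.bΩ.coord k η := by
  have h := S.bΩ.sum_repr η
  conv_lhs => rw [← h]
  simp only [map_sum, map_smul, S.hbΩ, S.hι]
  rw [Finset.sum_eq_single k]
  · simp [mul_comm]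
  · intro b _ hb
    simp [hb, Ne.symm hb]
  · simp

/-- partial derivative -/
noncomputable def pd (i : Fin n) (b : B) : B := S.bΩ.coord i (KaehlerDifferential.D A B b)

theorem pd_t (i j : Fin n) : S.pd i (S.t j) = if i = j then 1 else 0 := by
  classical
  rw [pd, ← S.hbΩ, Module.Basis.coord_apply, S.bΩ.repr_self, Finsupp.single_apply]
  simp [eq_comm]

theorem pd_mul (i : Fin n) (a b : B) : S.pd i (a * b) = a * S.pd i b + b * S.pd i a := by
  simp [pd]

theorem pd_one (i : Fin n) : S.pd i (1 : B) = 0 := by simp [pd]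

theorem comp_smul (i : Fin n) (b : B) (e : E) :
    comp S.nabla S.ω i (b • e) =
      b • comp S.nabla S.ω i e + (S.lam * S.t i * S.pd i b) • e := by
  simp only [comp_eq, S.hc b e, map_add, map_smul, readR_tmul]
  change _ + S.lam • S.ω.coord i (S.ι (KaehlerDifferential.D A B b)) • e = _
  rw [S.coord_ι, smul_smul, ← mul_assoc]
  rfl

/-- product of coordinates -/
def tprod (K : Finset (Fin n)) : B := ∏ i ∈ K, S.t i

theorem tprod_empty : S.tprod ∅ = 1 := by simp [tprod]

theorem tprod_insert {j : Fin n} {K : Finset (Fin n)} (h : j ∉ K) :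
    S.tprod (insert j K) = S.t j * S.tprod K := Finset.prod_insert h

theorem pd_tprod_eq_zero {i : Fin n} : ∀ {K : Finset (Fin n)}, i ∉ K → S.pd i (S.tprod K) = 0 := by
  intro K
  induction K using Finset.induction_on with
  | empty => intro _; rw [tprod_empty, pd_one]
  | insert a K ha ih =>
    intro h
    rw [Finset.mem_insert, not_or] at h
    rw [S.tprod_insert ha, pd_mul, ih h.2, pd_t, if_neg h.1]
    ring

theorem t_mul_pd_tprod (i : Fin n) (K : Finset (Fin n)) :
    ∃ r, S.t i * S.pd i (S.tprod K) = r * S.tprod K := by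
  induction K using Finset.induction_on with
  | empty => exact ⟨0, by rw [tprod_empty, pd_one]; ring⟩
  | insert a K ha ih =>
    obtain ⟨r, hr⟩ := ih
    rw [S.tprod_insert ha, pd_mul, pd_t]
    by_cases h : i = a
    · subst h
      refine ⟨r + 1, ?_⟩
      rw [if_pos rfl]
      linear_combination S.t i * hr
    · refine ⟨r, ?_⟩
      rw [if_neg h]
      linear_combination S.t a * hr

/-- abbreviation for composites -/
noncomputable abbrev P (J : Finset (Fin n)) : E →ₗ[A] E := compProd S.nabla S.ω J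

theorem P_empty (e : E) : S.P ∅ e = e := by simp [P, compProd]

theorem P_insert_min {j : Fin n} {J : Finset (Fin n)} (h : ∀ k ∈ J, j < k) (e : E) :
    S.P (insert j J) e = comp S.nabla S.ω j (S.P J e) := by
  have h₂ : j ∉ J := fun hm => lt_irrefl _ (h j hm)
  simp only [P, compProd, Finset.sort_insert (· ≤ ·) (fun b hb => (h b hb).le) h₂, List.foldr_cons,
    LinearMap.comp_apply]

/-- the piece -/
noncomputable abbrev pc (I : Finset (Fin n)) : Submodule A E := piece S.nabla S.ω S.t I

theorem pc_eq (I : Finset (Fin n)) : S.pc I = ⨆ J ∈ I.powerset,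
    LinearMap.range (((LinearMap.lsmul B E (S.tprod (I \ J))).restrictScalars A) ∘ₗ S.P J) := rfl

theorem gen_mem_pc {I J : Finset (Fin n)} (h : J ⊆ I) (e : E) :
    S.tprod (I \ J) • S.P J e ∈ S.pc I := by
  rw [pc_eq]
  exact Submodule.mem_iSup_of_mem J (Submodule.mem_iSup_of_mem (Finset.mem_powerset.2 h) ⟨e, rfl⟩)

theorem P_mem_pc (I : Finset (Fin n)) (e : E) : S.P I e ∈ S.pc I := by
  simpa [tprod] using S.gen_mem_pc (Finset.Subset.refl I) e

theorem pc_empty : S.pc ∅ = ⊤ :=
  eq_top_iff.2 fun e _ => by simpa [P_empty] using S.P_mem_pc ∅ e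

theorem pc_le {I : Finset (Fin n)} {M : Submodule A E}
    (h : ∀ J, J ⊆ I → ∀ e, S.tprod (I \ J) • S.P J e ∈ M) : S.pc I ≤ M := by
  rw [pc_eq]
  refine iSup₂_le fun J hJ => ?_
  rintro _ ⟨e, rfl⟩
  exact h J (Finset.mem_powerset.1 hJ) e

theorem tprod_sdiff_trans {I J K : Finset (Fin n)} (h1 : K ⊆ J) (h2 : J ⊆ I) :
    S.tprod (I \ J) * S.tprod (J \ K) = S.tprod (I \ K) := by
  rw [tprod, tprod, tprod, ← Finset.prod_union]
  · congr 1
    ext x
    simp only [Finset.mem_union, Finset.mem_sdiff]
    constructor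
    · rintro (⟨a, b⟩ | ⟨a, b⟩)
      · exact ⟨a, fun h => b (h1 h)⟩
      · exact ⟨h2 a, b⟩
    · rintro ⟨a, b⟩
      by_cases hx : x ∈ J
      · exact Or.inr ⟨hx, b⟩
      · exact Or.inl ⟨a, hx⟩
  · rw [Finset.disjoint_left]
    intro x hx hx'
    exact (Finset.mem_sdiff.1 hx).2 (Finset.mem_sdiff.1 hx').1

/-- multiplication by the missing coordinates -/
theorem tprod_smul_mem {I J : Finset (Fin n)} (h : J ⊆ I) {x : E} (hx : x ∈ S.pc J) :
    S.tprod (I \ J) • x ∈ S.pc I := by
  have : S.pc J ≤ (S.pc I).comap (((LinearMap.lsmul B E) (S.tprod (I \ J))).restrictScalars A) := by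
    refine S.pc_le fun K hK e => ?_
    change S.tprod (I \ J) • S.tprod (J \ K) • S.P K e ∈ S.pc I
    rw [smul_smul, S.tprod_sdiff_trans hK h]
    exact S.gen_mem_pc (hK.trans h) e
  exact this hx

theorem t_smul_mem_insert {j : Fin n} {J : Finset (Fin n)} (hj : j ∉ J) {x : E} (hx : x ∈ S.pc J) :
    S.t j • x ∈ S.pc (insert j J) := by
  have := S.tprod_smul_mem (Finset.subset_insert j J) hx
  rwa [Finset.insert_sdiff_of_notMem _ hj, Finset.sdiff_self, insert_empty_eq, tprod,
    Finset.prod_singleton] at this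

theorem comp_gen_min {j : Fin n} {J K : Finset (Fin n)} (h : ∀ k ∈ J, j < k) (hK : K ⊆ J) (e : E) :
    comp S.nabla S.ω j (S.tprod (J \ K) • S.P K e) =
      S.tprod (insert j J \ insert j K) • S.P (insert j K) e := by
  have hj : j ∉ J := fun hm => lt_irrefl _ (h j hm)
  rw [S.comp_smul, S.pd_tprod_eq_zero (fun hm => hj (Finset.mem_sdiff.1 hm).1),
    S.P_insert_min (fun k hk => h k (hK hk))]
  simp only [mul_zero, zero_smul, add_zero]
  congr 2
  rw [Finset.insert_sdiff_insert]
  exact (Finset.sdiff_insert_of_notMem hj K).symm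

theorem comp_mem_min {j : Fin n} {J : Finset (Fin n)} (h : ∀ k ∈ J, j < k) {x : E}
    (hx : x ∈ S.pc J) : comp S.nabla S.ω j x ∈ S.pc (insert j J) := by
  have : S.pc J ≤ (S.pc (insert j J)).comap (comp S.nabla S.ω j) := by
    refine S.pc_le fun K hK e => ?_
    rw [Submodule.mem_comap, S.comp_gen_min h hK]
    exact S.gen_mem_pc (Finset.insert_subset_insert j hK) e
  exact this hx

theorem smul_P_mem (J : Finset (Fin n)) : ∀ (b : B) (e : E), b • S.P J e ∈ S.pc J := by
  induction J using Finset.induction_on_min with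
  | empty => intro b e; rw [S.pc_empty]; trivial
  | insert j J h ih =>
    intro b e
    rw [S.P_insert_min h]
    have e1 : b • comp S.nabla S.ω j (S.P J e) = comp S.nabla S.ω j (b • S.P J e) -
        S.t j • (S.lam * S.pd j b) • S.P J e := by
      rw [S.comp_smul, smul_smul, mul_comm S.lam (S.t j), mul_assoc, add_sub_cancel_right]
    rw [e1]
    exact sub_mem (S.comp_mem_min h (ih b e))
      (S.t_smul_mem_insert (fun hm => lt_irrefl _ (h j hm)) (ih _ e))

theorem smul_mem {I : Finset (Fin n)} (b : B) {x : E} (hx : x ∈ S.pc I) : b • x ∈ S.pc I := by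
  have : S.pc I ≤ (S.pc I).comap ((LinearMap.lsmul B E b).restrictScalars A) := by
    refine S.pc_le fun J hJ e => ?_
    change b • S.tprod (I \ J) • S.P J e ∈ S.pc I
    rw [smul_comm]
    exact S.tprod_smul_mem hJ (S.smul_P_mem J b e)
  exact this hx

/-- the piece as a `B`-submodule -/
noncomputable def pcB (I : Finset (Fin n)) : Submodule B E where
  carrier := S.pc I
  zero_mem' := zero_mem (S.pc I)
  add_mem' := add_mem
  smul_mem' := fun b _ hx => S.smul_mem b hx

/-- span of the generators attached to a subset -/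
noncomputable def G (s : Set E) (I : Finset (Fin n)) : Submodule B E :=
  Submodule.span B (⋃ J ∈ I.powerset, (fun e => S.tprod (I \ J) • S.P J e) '' s)

theorem gen_mem_G {s : Set E} {I J : Finset (Fin n)} (h : J ⊆ I) {e : E} (he : e ∈ s) :
    S.tprod (I \ J) • S.P J e ∈ S.G s I :=
  Submodule.subset_span (Set.mem_biUnion (Finset.mem_powerset.2 h) ⟨e, he, rfl⟩)

theorem tprod_smul_mem_G {s : Set E} {I J : Finset (Fin n)} (h : J ⊆ I) {x : E}
    (hx : x ∈ S.G s J) : S.tprod (I \ J) • x ∈ S.G s I := by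
  have : S.G s J ≤ (S.G s I).comap (LinearMap.lsmul B E (S.tprod (I \ J))) := by
    refine Submodule.span_le.2 ?_
    rintro _ hy
    obtain ⟨K, hK, e, he, rfl⟩ := Set.mem_iUnion₂.1 hy
    rw [Finset.mem_powerset] at hK
    change S.tprod (I \ J) • S.tprod (J \ K) • S.P K e ∈ S.G s I
    rw [smul_smul, S.tprod_sdiff_trans hK h]
    exact S.gen_mem_G (hK.trans h) he
  exact this hx

theorem t_smul_mem_G {s : Set E} {j : Fin n} {J : Finset (Fin n)} (hj : j ∉ J) {x : E}
    (hx : x ∈ S.G s J) : S.t j • x ∈ S.G s (insert j J) := by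
  have := S.tprod_smul_mem_G (Finset.subset_insert j J) hx
  rwa [Finset.insert_sdiff_of_notMem _ hj, Finset.sdiff_self, insert_empty_eq, tprod,
    Finset.prod_singleton] at this

theorem comp_mem_G {s : Set E} {j : Fin n} {J : Finset (Fin n)} (h : ∀ k ∈ J, j < k) {x : E}
    (hx : x ∈ S.G s J) : comp S.nabla S.ω j x ∈ S.G s (insert j J) := by
  have hj : j ∉ J := fun hm => lt_irrefl _ (h j hm)
  induction hx using Submodule.span_induction with
  | mem y hy =>
    obtain ⟨K, hK, e, he, rfl⟩ := Set.mem_iUnion₂.1 hy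
    rw [Finset.mem_powerset] at hK
    rw [S.comp_gen_min h hK]
    exact S.gen_mem_G (Finset.insert_subset_insert j hK) he
  | zero => simp
  | add y z _ _ hy hz => rw [map_add]; exact add_mem hy hz
  | smul b y hy' hy =>
    rw [S.comp_smul]
    refine add_mem (Submodule.smul_mem _ b hy) ?_
    rw [mul_comm S.lam (S.t j), mul_assoc, mul_smul]
    exact S.t_smul_mem_G hj (Submodule.smul_mem _ _ hy')

theorem P_mem_G {s : Set E} (hs : Submodule.span B s = ⊤) (J : Finset (Fin n)) :
    ∀ e : E, S.P J e ∈ S.G s J := by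
  induction J using Finset.induction_on_min with
  | empty =>
    intro e
    rw [P_empty]
    have : Submodule.span B s ≤ S.G s ∅ := Submodule.span_le.2 fun x hx => by
      simpa [tprod_empty, P_empty] using S.gen_mem_G (Finset.Subset.refl ∅) hx
    exact this (hs ▸ Submodule.mem_top)
  | insert j J h ih =>
    intro e
    rw [S.P_insert_min h]
    exact S.comp_mem_G h (ih e)

theorem G_eq_pc {s : Set E} (hs : Submodule.span B s = ⊤) (I : Finset (Fin n)) :
    (S.G s I).restrictScalars A = S.pc I := by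
  refine le_antisymm ?_ (S.pc_le fun J hJ e => S.tprod_smul_mem_G hJ (S.P_mem_G hs J e))
  have : S.G s I ≤ S.pcB I := by
    refine Submodule.span_le.2 ?_
    rintro _ hy
    obtain ⟨K, hK, e, _, rfl⟩ := Set.mem_iUnion₂.1 hy
    exact S.gen_mem_pc (Finset.mem_powerset.1 hK) e
  exact fun x hx => this hx

end Setting

end Groth.Agent.LogConnLib
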