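import Groth.Agent.LogConnLib.Flat

set_option autoImplicit false
universe v u

open TensorProduct LogConn

namespace Groth.Agent.LogConnLib.Setting

variable {A : Type v} {B E L : Type u} [CommRing A] [CommRing B] [Algebra A B]
  [AddCommGroup L] [Module B L] [Module A L] [IsScalarTower A B L]
  [AddCommGroup E] [Module B E] [Module A E] [IsScalarTower A B E] {n p : ℕ}
  (S : Setting A B E L n)

/-- changed coordinates -/
noncomputable def change (u : Fin n → Bˣ) (bΩ' : Module.Basis (Fin n) B (KaehlerDifferential A B))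
    (hbΩ' : ∀ i, bΩ' i = KaehlerDifferential.D A B ((u i : B) * S.t i))
    (ω' : Module.Basis (Fin n) B L)
    (hω' : ∀ i, ω' i = S.ω i + ((u i)⁻¹ : Bˣ).val • S.ι (KaehlerDifferential.D A B (u i : B))) :
    Setting A B E L n where
  lam := S.lam
  t i := (u i : B) * S.t i
  bΩ := bΩ'
  hbΩ := hbΩ'
  ω := ω'
  ι := S.ι
  hι i := by
    rw [Derivation.leibniz, map_add, map_smul, map_smul, S.hι, hω', smul_add, smul_smul, smul_smul]
    congr 2
    rw [mul_comm (u i : B) (S.t i), mul_assoc, ← Units.val_mul, mul_inv_cancel, Units.val_one, mul_one]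
  nabla := S.nabla
  hc := S.hc

variable {u : Fin n → Bˣ} {bΩ' : Module.Basis (Fin n) B (KaehlerDifferential A B)}
  {hbΩ' : ∀ i, bΩ' i = KaehlerDifferential.D A B ((u i : B) * S.t i)}
  {ω' : Module.Basis (Fin n) B L}
  {hω' : ∀ i, ω' i = S.ω i + ((u i)⁻¹ : Bˣ).val • S.ι (KaehlerDifferential.D A B (u i : B))}

local notation "S'" => S.change u bΩ' hbΩ' ω' hω'

theorem tprod_change (K : Finset (Fin n)) :
    (S').tprod K = ((∏ i ∈ K, u i : Bˣ) : B) * S.tprod K := by
  simp only [tprod, Units.coe_prod, change, Finset.prod_mul_distrib]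

include hbΩ' hω' in
theorem coord_change (l k : Fin n) :
    ∃ r, ω'.coord k (S.ω l) = (if l = k then 1 else 0) + S.t k * r := by
  refine ⟨-((u k : B) * (((u l)⁻¹ : Bˣ).val *
    bΩ'.coord k (KaehlerDifferential.D A B (u l : B)))), ?_⟩
  rw [eq_sub_of_add_eq (hω' l).symm, map_sub, map_smul, smul_eq_mul,
    show ω'.coord k (ω' l) = if l = k then 1 else 0 by
      rw [Module.Basis.coord_apply, ω'.repr_self, Finsupp.single_apply],
    show ω'.coord k (S.ι (KaehlerDifferential.D A B (u l : B))) =
      ((u k : B) * S.t k) * bΩ'.coord k (KaehlerDifferential.D A B (u l : B)) from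
      (S').coord_ι _ k]
  ring

include hω' in
theorem coord_change' (l k : Fin n) :
    ∃ r, S.ω.coord k (ω' l) = (if l = k then 1 else 0) + S.t k * r := by
  refine ⟨((u l)⁻¹ : Bˣ).val * S.bΩ.coord k (KaehlerDifferential.D A B (u l : B)), ?_⟩
  rw [hω', map_add, map_smul, S.coord_ι, smul_eq_mul,
    show S.ω.coord k (S.ω l) = if l = k then 1 else 0 by
      rw [Module.Basis.coord_apply, S.ω.repr_self, Finsupp.single_apply]]
  ring

include hbΩ' hω' in
theorem comp_change (hC : S.Comm) (k : Fin n) {K : Finset (Fin n)} {y : E} (hy : y ∈ S.pc K) :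
    ∃ z ∈ S.pc K, comp S.nabla ω' k y = comp S.nabla S.ω k y + S.t k • z := by
  classical
  choose r hr using fun l => S.coord_change (hbΩ' := hbΩ') (hω' := hω') l k
  refine ⟨∑ l, r l • comp S.nabla S.ω l y, sum_mem fun l _ => S.smul_mem _ (comp_mem_self hC l hy), ?_⟩
  conv_lhs => rw [comp_eq, nabla_eq S.nabla S.ω y]
  simp only [map_sum, readR_tmul, hr, add_smul, ite_smul, one_smul, zero_smul,
    Finset.sum_add_distrib, Finset.sum_ite_eq', Finset.mem_univ, if_true, Finset.smul_sum,
    mul_smul]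

theorem P_change_mem (hC : S.Comm) (J : Finset (Fin n)) : ∀ e : E, (S').P J e ∈ S.pc J := by
  induction J using Finset.induction_on_min with
  | empty => intro e; rw [pc_empty]; trivial
  | insert j J h ih =>
    intro e
    rw [(S').P_insert_min h]
    change comp S.nabla ω' j _ ∈ _
    obtain ⟨z, hz, heq⟩ := S.comp_change (hbΩ' := hbΩ') (hω' := hω') hC j (ih e)
    rw [heq]
    exact add_mem (S.comp_mem_min h (ih e))
      (S.t_smul_mem_insert (fun hm => lt_irrefl _ (h j hm)) hz)

theorem pc_change_le (hC : S.Comm) (I : Finset (Fin n)) : (S').pc I ≤ S.pc I := by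
  refine (S').pc_le fun J hJ e => ?_
  rw [S.tprod_change, mul_smul]
  exact S.smul_mem _ (S.tprod_smul_mem hJ (S.P_change_mem hC J e))

theorem pc_change (hC : S.Comm) (I : Finset (Fin n)) : (S').pc I = S.pc I := by
  classical
  induction I using Finset.strongInduction with
  | H I ih =>
    refine le_antisymm (S.pc_change_le hC I) (S.pc_le fun J hJ e => ?_)
    have key : S.P J e ∈ (S').pc J := by
      rcases eq_or_ne J I with rfl | hne
      · rcases J.eq_empty_or_nonempty with rfl | hne
        · rw [pc_empty]; trivial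
        · obtain ⟨j, hjJ, hj⟩ : ∃ j ∈ J, ∀ k ∈ J, j ≤ k :=
            ⟨J.min' hne, J.min'_mem hne, fun k hk => J.min'_le k hk⟩
          have hlt : ∀ k ∈ J.erase j, j < k := fun k hk =>
            lt_of_le_of_ne (hj k (Finset.mem_of_mem_erase hk)) (Finset.ne_of_mem_erase hk).symm
          have hss : J.erase j ⊂ J := Finset.erase_ssubset hjJ
          have hy : S.P (J.erase j) e ∈ S.pc (J.erase j) := S.P_mem_pc _ e
          have heq' : S.P J e = comp S.nabla S.ω j (S.P (J.erase j) e) := by
            conv_lhs => rw [← Finset.insert_erase hjJ]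
            exact S.P_insert_min hlt e
          obtain ⟨z, hz, heq⟩ := S.comp_change (hbΩ' := hbΩ') (hω' := hω') hC j hy
          rw [heq', eq_sub_of_add_eq heq.symm]
          rw [← ih _ hss] at hy hz
          have h1 := (S').comp_mem_min hlt hy
          have h2 := (S').t_smul_mem_insert (Finset.notMem_erase j J) hz
          rw [Finset.insert_erase hjJ] at h1 h2
          refine sub_mem h1 ?_
          have h3 := (S').smul_mem ((u j)⁻¹ : Bˣ).val h2
          rwa [show (S').t j = (u j : B) * S.t j from rfl, smul_smul, ← mul_assoc, ← Units.val_mul,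
            inv_mul_cancel, Units.val_one, one_mul] at h3
      · rw [ih J (Finset.ssubset_iff_subset_ne.2 ⟨hJ, hne⟩)]
        exact S.P_mem_pc J e
    have h1 := (S').tprod_smul_mem hJ key
    rw [S.tprod_change, mul_smul] at h1
    have h2 := (S').smul_mem ((∏ i ∈ I \ J, u i)⁻¹ : Bˣ).val h1
    rwa [smul_smul, ← Units.val_mul, inv_mul_cancel, Units.val_one, one_smul] at h2

/-- transfer between two bases congruent modulo the coordinates -/
theorem layer_transfer (hC : S.Comm) (b b' : Module.Basis (Fin n) B L)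
    (h : ∀ l k, l ≠ k → S.t k ∣ b'.coord k (b l)) {x : E ⊗[B] ↥(⋀[B]^p L)}
    (hx : ∀ K : Set.powersetCard (Fin n) p, coordE b p K x ∈ S.pc (K : Finset (Fin n)))
    (K : Set.powersetCard (Fin n) p) : coordE b' p K x ∈ S.pc (K : Finset (Fin n)) := by
  classical
  rw [← sum_readR (b.exteriorPower p) x, map_sum]
  refine sum_mem fun K' _ => ?_
  rw [basis_eq, coordE_tmul_ιMulti]
  obtain ⟨r, hr⟩ := det_dvd b' S.t K (fun a => b (emb K' a)) (K' : Finset (Fin n))
    (fun a k hk => h _ k fun he => (Finset.mem_sdiff.1 hk).2 (he ▸ emb_mem K' a))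
  rw [hr, mul_comm, mul_smul]
  refine S.smul_mem r ?_
  have hy := pc_anti hC (Finset.inter_subset_left
    (s₁ := (K' : Finset (Fin n))) (s₂ := (K : Finset (Fin n)))) (hx K')
  have h4 := S.tprod_smul_mem (Finset.inter_subset_right
    (s₁ := (K' : Finset (Fin n))) (s₂ := (K : Finset (Fin n)))) hy
  rwa [Finset.sdiff_inter_self_right] at h4

theorem layer_change (hC : S.Comm) (p : ℕ) :
    layer S.nabla S.ω S.t p = layer (S').nabla (S').ω (S').t p := by
  ext x
  rw [S.mem_layer_iff, (S').mem_layer_iff]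
  simp only [S.pc_change hC]
  constructor
  · intro hx K
    refine S.layer_transfer hC S.ω ω' (fun l k hlk => ?_) hx K
    obtain ⟨r, hr⟩ := S.coord_change (hbΩ' := hbΩ') (hω' := hω') l k
    rw [hr, if_neg hlk, zero_add]
    exact dvd_mul_right _ _
  · intro hx K
    refine S.layer_transfer hC ω' S.ω (fun l k hlk => ?_) hx K
    obtain ⟨r, hr⟩ := S.coord_change' (hω' := hω') l k
    rw [hr, if_neg hlk, zero_add]
    exact dvd_mul_right _ _

theorem nablas_mem_layer {d : ∀ p : ℕ, ↥(⋀[B]^p L) →ₗ[A] ↥(⋀[B]^(p + 1) L)}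
    (hd : LogDiff.IsLogRule (KaehlerDifferential.D A B) S.ι (⇑S.ω) d)
    {nablas : ∀ p : ℕ, E ⊗[B] ↥(⋀[B]^p L) →ₗ[A] E ⊗[B] ↥(⋀[B]^(p + 1) L)}
    (hint : Conn.IsIntegrable S.nabla (fun p => S.lam • d p) nablas)
    {x : E ⊗[B] ↥(⋀[B]^p L)} (hx : x ∈ layer S.nabla S.ω S.t p) :
    nablas p x ∈ layer S.nabla S.ω S.t (p + 1) := by
  classical
  have hC := S.comm hd hint
  rw [S.mem_layer_iff] at hx
  rw [← sum_readR (S.ω.exteriorPower p) x, map_sum]
  refine sum_mem fun K _ => ?_
  rw [basis_eq, S.nablas_tmul hd hint]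
  refine sum_mem fun j _ => ?_
  rw [S.mem_layer_iff]
  intro K'
  rw [coordE_tmul_ιMulti]
  by_cases hsub : (K' : Finset (Fin n)) ⊆ insert j (K : Finset (Fin n))
  · refine S.smul_mem _ ?_
    have hj : j ∉ (K : Finset (Fin n)) := fun hj => by
      rw [Finset.insert_eq_self.2 hj] at hsub
      have := Finset.card_le_card hsub
      rw [K.2, K'.2] at this
      omega
    rw [Finset.eq_of_subset_of_card_le hsub (by rw [Finset.card_insert_of_notMem hj, K.2, K'.2])]
    exact comp_mem_insert hC hj (hx K)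
  · obtain ⟨k, hk, hk'⟩ := Finset.not_subset.1 hsub
    rw [Finset.mem_insert, not_or] at hk'
    rw [det_zero_of_notMem S.ω K' hk, zero_smul]
    · exact zero_mem _
    · intro a
      rw [Module.Basis.coord_apply, S.ω.repr_self, Finsupp.single_eq_of_ne]
      refine Fin.cases ?_ (fun b => ?_) a
      · simpa using hk'.1
      · rw [Fin.cons_succ]
        exact fun h => hk'.2 (h ▸ emb_mem K b)

end Groth.Agent.LogConnLib.Setting
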