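import Groth.Agent.LogConnLib.Basic

set_option autoImplicit false
universe v u

open TensorProduct LogConn

namespace Groth.Agent.LogConnLib

variable {B L E : Type u} [CommRing B] [AddCommGroup L] [Module B L] [AddCommGroup E] [Module B E]
  {n p : ℕ}

/-- the increasing enumeration -/
noncomputable abbrev emb (K : Set.powersetCard (Fin n) p) : Fin p ↪o Fin n :=
  Set.powersetCard.ofFinEmbEquiv.symm K

theorem emb_mem (K : Set.powersetCard (Fin n) p) (a : Fin p) : emb K a ∈ (K : Finset (Fin n)) := by
  rw [emb, Set.powersetCard.ofFinEmbEquiv_symm_apply]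
  exact Finset.orderEmbOfFin_mem _ _ _

theorem exists_emb {K : Set.powersetCard (Fin n) p} {k : Fin n} (h : k ∈ (K : Finset (Fin n))) :
    ∃ a, emb K a = k :=
  (Set.powersetCard.mem_range_ofFinEmbEquiv_symm_iff_mem K k).2 h

theorem image_emb (K : Set.powersetCard (Fin n) p) :
    Finset.univ.map (emb K).toEmbedding = (K : Finset (Fin n)) := by
  ext k
  simp only [Finset.mem_map, Finset.mem_univ, true_and]
  exact ⟨fun ⟨a, ha⟩ => ha ▸ emb_mem K a, fun h => exists_emb h⟩

theorem coordE_eq (ω : Module.Basis (Fin n) B L) (K : Set.powersetCard (Fin n) p) :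
    coordE (E := E) ω p K = readR ((ω.exteriorPower p).coord K) := rfl

theorem coordE_tmul_ιMulti (ω : Module.Basis (Fin n) B L) (K : Set.powersetCard (Fin n) p)
    (y : E) (v : Fin p → L) :
    coordE ω p K (y ⊗ₜ[B] exteriorPower.ιMulti B p v) =
      (Matrix.of fun a b => ω.coord (emb K b) (v a)).det • y := by
  rw [coordE_eq, readR_tmul, exteriorPower.basis_coord, exteriorPower.ιMultiDual_apply_ιMulti]

theorem basis_eq (ω : Module.Basis (Fin n) B L) (K : Set.powersetCard (Fin n) p) :
    ω.exteriorPower p K = exteriorPower.ιMulti B p (fun a => ω (emb K a)) := by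
  rw [exteriorPower.basis_apply]
  rfl

theorem det_zero_of_notMem (ω : Module.Basis (Fin n) B L) (K : Set.powersetCard (Fin n) p)
    {v : Fin p → L} {k : Fin n} (hk : k ∈ (K : Finset (Fin n)))
    (h : ∀ a, ω.coord k (v a) = 0) :
    (Matrix.of fun a b => ω.coord (emb K b) (v a)).det = 0 := by
  obtain ⟨b, rfl⟩ := exists_emb hk
  exact Matrix.det_eq_zero_of_column_eq_zero b h

theorem det_dvd (ω : Module.Basis (Fin n) B L) (t : Fin n → B) (K : Set.powersetCard (Fin n) p)
    (v : Fin p → L) (L' : Finset (Fin n))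
    (h : ∀ a, ∀ k ∈ (K : Finset (Fin n)) \ L', t k ∣ ω.coord k (v a)) :
    (∏ k ∈ (K : Finset (Fin n)) \ L', t k) ∣
      (Matrix.of fun a b => ω.coord (emb K b) (v a)).det := by
  have h' : ∀ a b, ∃ x, ω.coord (emb K b) (v a) = (if emb K b ∈ L' then 1 else t (emb K b)) * x := by
    intro a b
    split_ifs with hb
    · exact ⟨_, (one_mul _).symm⟩
    · exact h a _ (Finset.mem_sdiff.2 ⟨emb_mem K b, hb⟩)
  choose x hx using h'
  have hM : (Matrix.of fun a b => ω.coord (emb K b) (v a)) =
      Matrix.of fun a b => (if emb K b ∈ L' then 1 else t (emb K b)) * (Matrix.of x) a b := by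
    ext a b
    exact hx a b
  rw [hM, Matrix.det_mul_row]
  refine dvd_mul_of_dvd_left (dvd_of_eq ?_) _
  rw [← image_emb K, Finset.sdiff_eq_filter, Finset.filter_map, Finset.prod_map, Finset.prod_filter]
  refine Finset.prod_congr rfl fun b _ => ?_
  simp only [Function.comp_apply, RelEmbedding.coe_toEmbedding]
  split_ifs <;> rfl

section wedge

theorem oneEquiv_symm_apply' (l : L) :
    (exteriorPower.oneEquiv B L).symm l = exteriorPower.ιMulti B 1 (fun _ => l) := by
  rw [LinearEquiv.symm_apply_eq, exteriorPower.oneEquiv_ιMulti]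

theorem wedge_ιMulti (l : L) (v : Fin p → L) :
    Conn.wedge p ((exteriorPower.oneEquiv B L).symm l) (exteriorPower.ιMulti B p v) =
      exteriorPower.ιMulti B (p + 1) (Fin.cons l v) := by
  apply Subtype.ext
  rw [oneEquiv_symm_apply', Conn.wedge_apply_coe, exteriorPower.ιMulti_apply_coe,
    exteriorPower.ιMulti_apply_coe, exteriorPower.ιMulti_apply_coe,
    ExteriorAlgebra.ιMulti_succ_apply, ExteriorAlgebra.ιMulti_succ_apply,
    ExteriorAlgebra.ιMulti_zero_apply, mul_one, Fin.cons_zero]
  congr

end wedge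

end Groth.Agent.LogConnLib
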