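import Groth.Agent.LogConnLib.Layer

set_option autoImplicit false
universe v u

open TensorProduct LogConn

namespace Groth.Agent.LogConnLib.Setting

variable {A : Type v} {B E L : Type u} [CommRing A] [CommRing B] [Algebra A B]
  [AddCommGroup L] [Module B L] [Module A L] [IsScalarTower A B L]
  [AddCommGroup E] [Module B E] [Module A E] [IsScalarTower A B E] {n p : ℕ}
  (S : Setting A B E L n)

section flat

variable {d : ∀ p : ℕ, ↥(⋀[B]^p L) →ₗ[A] ↥(⋀[B]^(p + 1) L)}
  (hd : LogDiff.IsLogRule (KaehlerDifferential.D A B) S.ι (⇑S.ω) d)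
  {nablas : ∀ p : ℕ, E ⊗[B] ↥(⋀[B]^p L) →ₗ[A] E ⊗[B] ↥(⋀[B]^(p + 1) L)}
  (hint : Conn.IsIntegrable S.nabla (fun p => S.lam • d p) nablas)

include hd in
theorem d_ιMulti (f : Fin p → Fin n) :
    d p (exteriorPower.ιMulti B p fun a => S.ω (f a)) = 0 := by
  have h := hd p 1 (fun a => S.ω (f a)) (fun a => Or.inr ⟨_, rfl⟩)
  rw [one_smul] at h
  rw [h, Derivation.map_one_eq_zero, map_zero]
  exact (exteriorPower.ιMulti B (p + 1)).map_coord_zero (0 : Fin (p + 1)) (Fin.cons_zero _ _)

include hd hint in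
theorem nablas_tmul (m : E) (f : Fin p → Fin n) :
    nablas p (m ⊗ₜ[B] exteriorPower.ιMulti B p fun a => S.ω (f a)) =
      ∑ j, comp S.nabla S.ω j m ⊗ₜ[B]
        exteriorPower.ιMulti B (p + 1) (fun a => S.ω ((Fin.cons j f : Fin (p + 1) → Fin n) a)) := by
  rw [hint.1, LinearMap.smul_apply, S.d_ιMulti hd, smul_zero, tmul_zero, add_zero,
    nabla_eq S.nabla S.ω m]
  simp only [map_sum, LinearMap.sum_apply, Conn.toOne_tmul, Conn.twedge_tmul, wedge_ιMulti]
  refine Finset.sum_congr rfl fun j _ => ?_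
  congr 2
  funext a
  refine Fin.cases ?_ (fun b => ?_) a <;> simp

include hd hint in
theorem comp_comm (i j : Fin n) (e : E) :
    comp S.nabla S.ω i (comp S.nabla S.ω j e) = comp S.nabla S.ω j (comp S.nabla S.ω i e) := by
  classical
  have h := hint.2 e
  rw [nabla_eq S.nabla S.ω e] at h
  simp only [map_sum, Conn.toOne_tmul, oneEquiv_symm_apply'] at h
  have h2 : ∀ k : Fin n, (fun _ : Fin 1 => S.ω k) = fun a => S.ω ((fun _ : Fin 1 => k) a) :=
    fun k => rfl
  simp only [h2, S.nablas_tmul hd hint] at h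
  have h3 := congrArg (readR (E := E)
    (exteriorPower.pairingDual B L 2 (exteriorPower.ιMulti B 2 ![S.ω.coord i, S.ω.coord j]))) h
  simp only [map_sum, map_zero, readR_tmul, exteriorPower.pairingDual_ιMulti_ιMulti,
    Matrix.det_fin_two, Matrix.of_apply, Fin.cons_zero, Fin.cons_one, Matrix.cons_val_zero,
    Matrix.cons_val_one, Module.Basis.coord_apply, S.ω.repr_self, Finsupp.single_apply,
    sub_smul, Finset.sum_sub_distrib, mul_smul, ite_smul, one_smul, zero_smul] at h3
  simp only [Finset.sum_ite_eq', Finset.mem_univ, if_true, Finset.sum_ite_irrel,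
    Finset.sum_const_zero, sub_eq_zero] at h3
  exact h3

/-- the components commute -/
def Comm : Prop := ∀ (i j : Fin n) (e : E),
    comp S.nabla S.ω i (comp S.nabla S.ω j e) = comp S.nabla S.ω j (comp S.nabla S.ω i e)

include hd hint in
theorem comm : S.Comm := S.comp_comm hd hint

end flat

variable {S}

theorem P_insert (hC : S.Comm) {K : Finset (Fin n)} : ∀ {j : Fin n}, j ∉ K → ∀ e : E,
    S.P (insert j K) e = comp S.nabla S.ω j (S.P K e) := by
  induction K using Finset.induction_on_min with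
  | empty => intro j _ e; exact S.P_insert_min (by simp) e
  | insert k K h ih =>
    intro j hj e
    rw [Finset.mem_insert, not_or] at hj
    rcases lt_or_gt_of_ne hj.1 with hlt | hgt
    · refine S.P_insert_min (fun l hl => ?_) e
      rcases Finset.mem_insert.1 hl with rfl | hl
      · exact hlt
      · exact hlt.trans (h l hl)
    · rw [Finset.insert_comm, S.P_insert_min (j := k) (fun l hl => ?_), ih hj.2, hC,
        S.P_insert_min h]
      rcases Finset.mem_insert.1 hl with rfl | hl
      · exact hgt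
      · exact h l hl

theorem P_union (hC : S.Comm) {J K : Finset (Fin n)} (h : Disjoint J K) (e : E) :
    S.P (J ∪ K) e = S.P J (S.P K e) := by
  induction J using Finset.induction_on with
  | empty => rw [Finset.empty_union, S.P_empty]
  | insert a J ha ih =>
    rw [Finset.disjoint_insert_left] at h
    rw [Finset.insert_union, P_insert hC (by simp [ha, h.1]), ih h.2, P_insert hC ha]

theorem comp_P_comm (hC : S.Comm) (j : Fin n) (K : Finset (Fin n)) : ∀ e : E,
    comp S.nabla S.ω j (S.P K e) = S.P K (comp S.nabla S.ω j e) := by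
  induction K using Finset.induction_on_min with
  | empty => intro e; simp only [P_empty]
  | insert k K h ih => intro e; rw [S.P_insert_min h, S.P_insert_min h, hC, ih]

theorem comp_mem_insert (hC : S.Comm) {j : Fin n} {I : Finset (Fin n)} (hj : j ∉ I) {x : E}
    (hx : x ∈ S.pc I) : comp S.nabla S.ω j x ∈ S.pc (insert j I) := by
  have : S.pc I ≤ (S.pc (insert j I)).comap (comp S.nabla S.ω j) := by
    refine S.pc_le fun J hJ e => ?_
    have hjJ : j ∉ J := fun h => hj (hJ h)
    have hs : I \ J = insert j I \ insert j J := by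
      rw [Finset.insert_sdiff_insert, Finset.sdiff_insert_of_notMem hj]
    rw [Submodule.mem_comap, S.comp_smul, S.pd_tprod_eq_zero (fun h => hj (Finset.mem_sdiff.1 h).1),
      mul_zero, zero_smul, add_zero, ← P_insert hC hjJ, hs]
    exact S.gen_mem_pc (Finset.insert_subset_insert j hJ) e
  exact this hx

theorem comp_mem_self (hC : S.Comm) (j : Fin n) {I : Finset (Fin n)} {x : E}
    (hx : x ∈ S.pc I) : comp S.nabla S.ω j x ∈ S.pc I := by
  have : S.pc I ≤ (S.pc I).comap (comp S.nabla S.ω j) := by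
    refine S.pc_le fun J hJ e => ?_
    obtain ⟨r, hr⟩ := S.t_mul_pd_tprod j (I \ J)
    rw [Submodule.mem_comap, S.comp_smul, comp_P_comm hC, mul_assoc, hr, ← mul_assoc, mul_smul]
    exact add_mem (S.gen_mem_pc hJ _) (S.smul_mem _ (S.gen_mem_pc hJ e))
  exact this hx

theorem pc_anti (hC : S.Comm) {I I' : Finset (Fin n)} (h : I' ⊆ I) : S.pc I ≤ S.pc I' := by
  refine S.pc_le fun J hJ e => ?_
  have h1 : S.tprod (I \ J) = S.tprod ((I \ J) \ I') * S.tprod ((I \ J) ∩ I') := by
    rw [tprod, tprod, tprod, mul_comm, Finset.prod_inter_mul_prod_sdiff]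
  have h2 : (I \ J) ∩ I' = I' \ (J ∩ I') := by
    ext x
    simp only [Finset.mem_inter, Finset.mem_sdiff]
    exact ⟨fun hx => ⟨hx.2, fun hx' => hx.1.2 hx'.1⟩,
      fun hx => ⟨⟨h hx.1, fun hx' => hx.2 ⟨hx', hx.1⟩⟩, hx.1⟩⟩
  have h3 : J = (J ∩ I') ∪ (J \ I') := (sup_inf_sdiff J I').symm
  rw [h1, mul_smul, h2]
  refine S.smul_mem _ ?_
  conv in S.P J e => rw [h3]
  rw [P_union hC (Finset.disjoint_sdiff_inter J I').symm]
  exact S.gen_mem_pc Finset.inter_subset_right _

end Groth.Agent.LogConnLib.Setting
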