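import Groth.Agent.LogConnLib.Coord
import Mathlib.Data.Fintype.EquivFin

set_option autoImplicit false
universe v u

open TensorProduct LogConn

namespace Groth.Agent.LogConnLib.Setting

variable {A : Type v} {B E L : Type u} [CommRing A] [CommRing B] [Algebra A B]
  [AddCommGroup L] [Module B L] [Module A L] [IsScalarTower A B L]
  [AddCommGroup E] [Module B E] [Module A E] [IsScalarTower A B E] {n p : ℕ}
  (S : Setting A B E L n)

theorem mem_layer_iff (x : E ⊗[B] ↥(⋀[B]^p L)) :
    x ∈ layer S.nabla S.ω S.t p ↔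
      ∀ K : Set.powersetCard (Fin n) p, coordE S.ω p K x ∈ S.pc (K : Finset (Fin n)) := by
  simp only [layer, Submodule.mem_iInf, Submodule.mem_comap]
  rfl

/-- the layer as a `B`-submodule -/
noncomputable def layerB (p : ℕ) : Submodule B (E ⊗[B] ↥(⋀[B]^p L)) :=
  ⨅ K : Set.powersetCard (Fin n) p, (S.pcB (K : Finset (Fin n))).comap (coordE S.ω p K)

theorem mem_layerB_iff (x : E ⊗[B] ↥(⋀[B]^p L)) :
    x ∈ S.layerB p ↔ x ∈ layer S.nabla S.ω S.t p := by
  simp only [layerB, Submodule.mem_iInf, S.mem_layer_iff]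
  rfl

theorem gens_mem_layer {x : E ⊗[B] ↥(⋀[B]^p L)} (hx : x ∈ gens S.nabla S.ω S.ι p) :
    x ∈ layer S.nabla S.ω S.t p := by
  classical
  obtain ⟨I, hI, e, v, hv1, hv2, rfl⟩ := hx
  rw [S.mem_layer_iff]
  intro K
  rw [coordE_tmul_ιMulti]
  by_cases hIK : I ⊆ (K : Finset (Fin n))
  · obtain ⟨r, hr⟩ := det_dvd S.ω S.t K v I (fun a k hk => by
      rw [Finset.mem_sdiff] at hk
      rcases lt_or_ge a.val I.card with ha | ha
      · rw [hv1 a ha, Module.Basis.coord_apply, S.ω.repr_self, Finsupp.single_eq_of_ne]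
        · exact dvd_zero _
        · exact fun h => hk.2 (h ▸ Finset.orderEmbOfFin_mem _ _ _)
      · obtain ⟨η, hη⟩ := hv2 a ha
        rw [← hη, S.coord_ι]
        exact dvd_mul_right _ _)
    rw [hr, mul_comm, mul_smul]
    exact S.smul_mem r (S.gen_mem_pc hIK e)
  · obtain ⟨i, hiI, hiK⟩ := Finset.not_subset.1 hIK
    obtain ⟨a, ha⟩ : i ∈ Set.range (I.orderEmbOfFin rfl) := by
      rw [Finset.range_orderEmbOfFin]; exact hiI
    have hz : (Matrix.of fun a b => S.ω.coord (emb K b) (v a)).det = 0 := by
      refine Matrix.det_eq_zero_of_row_eq_zero ⟨a.val, lt_of_lt_of_le a.2 hI⟩ fun b => ?_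
      rw [Matrix.of_apply, hv1 ⟨a.val, lt_of_lt_of_le a.2 hI⟩ a.2, Module.Basis.coord_apply,
        S.ω.repr_self, Finsupp.single_eq_of_ne]
      intro h
      apply hiK
      simp only [Fin.eta] at h
      rw [← ha, ← h]
      exact emb_mem K b
    rw [hz, zero_smul]
    exact zero_mem _

theorem tmul_basis_mem_span_gens (K : Set.powersetCard (Fin n) p) {y : E}
    (hy : y ∈ S.pc (K : Finset (Fin n))) :
    y ⊗ₜ[B] S.ω.exteriorPower p K ∈ Submodule.span B (gens S.nabla S.ω S.ι p) := by
  classical
  have : S.pc (K : Finset (Fin n)) ≤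
      ((Submodule.span B (gens S.nabla S.ω S.ι p)).restrictScalars A).comap
        (((TensorProduct.mk B E _).flip (S.ω.exteriorPower p K)).restrictScalars A) := by
    refine S.pc_le fun J hJ e => ?_
    change (S.tprod _ • S.P J e) ⊗ₜ[B] S.ω.exteriorPower p K ∈
      Submodule.span B (gens S.nabla S.ω S.ι p)
    have hcard : (K : Finset (Fin n)).card = p := K.2
    have hJc : J.card ≤ p := hcard ▸ Finset.card_le_card hJ
    have hsum : J.card + ((K : Finset (Fin n)) \ J).card = p := by
      rw [Finset.card_sdiff_of_subset hJ, hcard]; omega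
    let σ : Fin p → Fin n := fun a =>
      if h : a.val < J.card then J.orderEmbOfFin rfl ⟨a.val, h⟩
      else ((K : Finset (Fin n)) \ J).orderEmbOfFin rfl ⟨a.val - J.card, by omega⟩
    have hmem : ∀ a, σ a ∈ (K : Finset (Fin n)) ∧ (σ a ∈ J ↔ a.val < J.card) := by
      intro a
      by_cases h : a.val < J.card
      · simp only [σ, dif_pos h, h, iff_true]
        exact ⟨hJ (Finset.orderEmbOfFin_mem _ _ _), Finset.orderEmbOfFin_mem _ _ _⟩
      · simp only [σ, dif_neg h, h, iff_false]
        exact Finset.mem_sdiff.1 (Finset.orderEmbOfFin_mem _ _ _)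
    have hσ : Function.Injective σ := by
      intro a b hab
      have h2 : a.val < J.card ↔ b.val < J.card := by rw [← (hmem a).2, ← (hmem b).2, hab]
      by_cases ha : a.val < J.card
      · simp only [σ, dif_pos ha, dif_pos (h2.1 ha)] at hab
        exact Fin.ext (by simpa using (J.orderEmbOfFin rfl).injective hab)
      · have hb : ¬ b.val < J.card := fun hb => ha (h2.2 hb)
        simp only [σ, dif_neg ha, dif_neg hb] at hab
        have := Fin.val_eq_of_eq ((((K : Finset (Fin n)) \ J).orderEmbOfFin rfl).injective hab)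
        exact Fin.ext (by simp only at this; omega)
    choose τ hτ using fun a => exists_emb (hmem a).1
    have hτi : Function.Injective τ := fun a b h => hσ (by rw [← hτ a, ← hτ b, h])
    let π : Equiv.Perm (Fin p) := Equiv.ofBijective τ (Finite.injective_iff_bijective.1 hτi)
    let c : Fin p → B := fun a => if a.val < J.card then 1 else S.t (σ a)
    have hc : ∏ a, c a = S.tprod ((K : Finset (Fin n)) \ J) := by
      have him : ((K : Finset (Fin n)) \ J) =
          (Finset.univ.filter fun a : Fin p => ¬ a.val < J.card).map ⟨σ, hσ⟩ := by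
        refine (Finset.eq_of_subset_of_card_le ?_ ?_).symm
        · intro k hk
          obtain ⟨a, ha, rfl⟩ := Finset.mem_map.1 hk
          exact Finset.mem_sdiff.2 ⟨(hmem a).1, fun h => (Finset.mem_filter.1 ha).2 ((hmem a).2.1 h)⟩
        · rw [Finset.card_map]
          refine le_of_eq_of_le ?_ (Finset.card_le_card (Finset.filter_subset_filter _ (Finset.Subset.refl _)))
          have : (Finset.univ.filter fun a : Fin p => a.val < J.card).card = J.card := by
            rw [Fin.card_filter_val_lt, Nat.min_eq_right hJc]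
          rw [Finset.filter_not, Finset.card_univ_diff, Fintype.card_fin, this]
          omega
      rw [tprod, him, Finset.prod_map, Finset.prod_filter]
      refine Finset.prod_congr rfl fun a _ => ?_
      simp only [c, ite_not]
      rfl
    have hgen : S.P J e ⊗ₜ[B] exteriorPower.ιMulti B p (fun a => c a • S.ω (σ a)) ∈
        gens S.nabla S.ω S.ι p := by
      refine ⟨J, hJc, e, _, fun a ha => ?_, fun a ha => ?_, rfl⟩
      · simp only [c, σ, if_pos ha, dif_pos ha, one_smul]
      · exact ⟨KaehlerDifferential.D A B (S.t (σ a)), by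
          rw [S.hι]; simp only [c, if_neg (not_lt.2 ha)]⟩
    have hperm : exteriorPower.ιMulti B p (fun a => S.ω (σ a)) =
        Equiv.Perm.sign π • S.ω.exteriorPower p K := by
      rw [basis_eq, ← AlternatingMap.map_perm]
      congr 1
      funext a
      simp only [Function.comp_apply, π, Equiv.ofBijective_apply, hτ]
    have hu := Submodule.subset_span (R := B) hgen
    rw [(exteriorPower.ιMulti B p).map_smul_univ, hc, hperm, Units.smul_def, ← Int.cast_smul_eq_zsmul B,
      tmul_smul, tmul_smul, smul_comm, smul_tmul'] at hu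
    have h3 := Submodule.smul_mem _ (((Equiv.Perm.sign π : ℤˣ) : ℤ) : B) hu
    rwa [smul_smul, ← Int.cast_mul, ← Units.val_mul, Int.units_mul_self, Units.val_one, Int.cast_one,
      one_smul] at h3
  exact this hy

theorem span_gens_eq_layer (p : ℕ) :
    (Submodule.span B (gens S.nabla S.ω S.ι p)).restrictScalars A = layer S.nabla S.ω S.t p := by
  refine le_antisymm ?_ ?_
  · have : Submodule.span B (gens S.nabla S.ω S.ι p) ≤ S.layerB p :=
      Submodule.span_le.2 fun x hx => (S.mem_layerB_iff x).2 (S.gens_mem_layer hx)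
    exact fun x hx => (S.mem_layerB_iff x).1 (this hx)
  · intro x hx
    rw [S.mem_layer_iff] at hx
    change x ∈ Submodule.span B _
    rw [← sum_readR (S.ω.exteriorPower p) x]
    exact sum_mem fun K _ => S.tmul_basis_mem_span_gens K (hx K)

end Groth.Agent.LogConnLib.Setting
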